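import Groth.Agent.Lib.NagataFP.PD
import Mathlib

/-!
Triviality of the Picard group of the generic fibre over a valuation ring.
-/

set_option autoImplicit false
set_option linter.style.haveILetI false
universe u

open TensorProduct GrothLib.Serre GrothLib.NagataFP

namespace GrothLib.PicGenFib4

variable {V A : Type u} [CommRing V] [IsDomain V] [ValuationRing V] [CommRing A] [IsLocalRing A]
  [Algebra V A] [Algebra.EssFiniteType V A] (B : Type u) [CommRing B] [Algebra A B] [Module.Flat A B]

theorem isStablyFree_baseChange (hA : TF V A A) : ∀ (j : ℕ) (N : Type u) [AddCommGroup N] [Module A N]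
    [Module.Finite A N], TF V A N → PdLE A N j → Module.Projective B (B ⊗[A] N) →
    Module.IsStablyFree B (B ⊗[A] N) := by
  intro j
  induction j with
  | zero =>
    intro N _ _ _ hN hj _
    haveI : Module.Projective A N := pdLE_zero_iff.1 hj
    haveI := finitePresentation_of_tf N hN
    haveI : Module.Free A N := Module.free_of_flat_of_isLocalRing
    infer_instance
  | succ j ih =>
    intro N _ _ _ hN hj hproj
    haveI := finitePresentation_of_tf N hN
    obtain ⟨k, π, hπ⟩ := Module.Finite.exists_fin' A N
    haveI : Module.Finite A (LinearMap.ker π) :=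
      Module.Finite.iff_fg.2 (Module.FinitePresentation.fg_ker π hπ)
    have hK := (pdLE_succ_iff π hπ j).1 hj
    let i := (LinearMap.ker π).subtype
    let iB := i.baseChange B
    let πB := π.baseChange B
    have hπB : Function.Surjective πB := LinearMap.lTensor_surjective B hπ
    have hiB : Function.Injective iB :=
      Module.Flat.lTensor_preserves_injective_linearMap i (LinearMap.ker π).injective_subtype
    have hex : Function.Exact iB πB :=
      Module.Flat.lTensor_exact B (LinearMap.exact_subtype_ker_map π)
    obtain ⟨σ, hσ⟩ := Module.projective_lifting_property πB LinearMap.id hπB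
    obtain ⟨e, -, -⟩ := hex.splitSurjectiveEquiv hiB ⟨σ, hσ⟩
    haveI : Module.Projective B (B ⊗[A] LinearMap.ker π) := by
      haveI : Module.Projective B ((B ⊗[A] LinearMap.ker π) × (B ⊗[A] N)) := Module.Projective.of_equiv e
      exact Module.Projective.of_split (LinearMap.inl B _ _) (LinearMap.fst B _ (B ⊗[A] N))
        (LinearMap.ext fun x => rfl)
    haveI := ih (LinearMap.ker π) ((TF.pi hA k).submodule _) hK inferInstance
    obtain ⟨P, _, _, _, _, hfree⟩ := Module.IsStablyFree.exist_free_prod B (B ⊗[A] LinearMap.ker π)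
    haveI := hfree
    have e' : ((B ⊗[A] N) × ((B ⊗[A] LinearMap.ker π) × P)) ≃ₗ[B] ((B ⊗[A] (Fin k → A)) × P) :=
      (LinearEquiv.prodAssoc B _ _ _).symm ≪≫ₗ
        ((LinearEquiv.prodComm B _ _ ≪≫ₗ e.symm).prodCongr (LinearEquiv.refl B P))
    haveI : Module.Free B ((B ⊗[A] N) × ((B ⊗[A] LinearMap.ker π) × P)) := Module.Free.of_equiv e'.symm
    exact Module.IsStablyFree.of_free_prod B _ ((B ⊗[A] LinearMap.ker π) × P)

theorem subsingleton_pic [IsLocalHom (algebraMap V A)] [Module.Flat V A]
    (hreg : IsRegularRing (TensorProduct V (IsLocalRing.ResidueField V) A))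
    [IsLocalization (Algebra.algebraMapSubmonoid A (nonZeroDivisors V)) B] :
    Subsingleton (CommRing.Pic B) := by
  classical
  let P := IsLocalRing.maximalIdeal V
  have hP : P.map (algebraMap V A) ≤ IsLocalRing.maximalIdeal A :=
    ((IsLocalRing.local_hom_TFAE (algebraMap V A)).out 0 2).1 ‹_›
  have hA : TF V A A := by
    intro a m ha hm
    haveI : Module.IsTorsionFree V A := Module.Flat.isTorsionFree
    rw [smul_eq_mul, ← Algebra.smul_def] at hm
    exact (smul_eq_zero.1 hm).resolve_left ha
  haveI : IsRegularLocalRing (A ⧸ P.map (algebraMap V A)) := by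
    haveI : Nontrivial (A ⧸ P.map (algebraMap V A)) := Ideal.Quotient.nontrivial_iff.2
      fun h => (IsLocalRing.maximalIdeal.isMaximal A).ne_top (top_le_iff.1 (h ▸ hP))
    haveI : IsLocalRing (A ⧸ P.map (algebraMap V A)) :=
      IsLocalRing.of_surjective' _ Ideal.Quotient.mk_surjective
    haveI : IsRegularRing (TensorProduct V (V ⧸ P) A) := hreg
    haveI : IsRegularRing (A ⧸ P.map (algebraMap V A)) := IsRegularRing.of_ringEquiv
      (R := TensorProduct V (V ⧸ P) A)
      ((Algebra.TensorProduct.comm V (V ⧸ P) A).toRingEquiv.trans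
        (Algebra.TensorProduct.quotIdealMapEquivTensorQuot A P).symm.toRingEquiv)
    exact IsRegularLocalRing.of_isRegularRing_of_isLocalRing _
  obtain ⟨n, hn⟩ : ∃ n : ℕ, ringKrullDim (A ⧸ P.map (algebraMap V A)) = n :=
    ⟨_, (IsRegularLocalRing.spanFinrank_maximalIdeal (R := A ⧸ P.map (algebraMap V A))).symm⟩
  let S := Algebra.algebraMapSubmonoid A (nonZeroDivisors V)
  rw [CommRing.Pic.subsingleton_iff]
  intro L _ _ hL
  haveI := hL
  letI : Module A L := Module.compHom L (algebraMap A B)
  haveI : IsScalarTower A B L := IsScalarTower.of_algebraMap_smul fun _ _ => rfl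
  obtain ⟨G, hG⟩ := (Module.Finite.fg_top : (⊤ : Submodule B L).FG)
  let M : Submodule A L := Submodule.span A (G : Set L)
  haveI : Module.Finite A M := Module.Finite.iff_fg.2 ⟨G, rfl⟩
  have hM : TF V A M := by
    intro a m ha hm
    have hu : IsUnit (algebraMap A B (algebraMap V A a)) :=
      IsLocalization.map_units B (⟨_, ⟨a, mem_nonZeroDivisors_of_ne_zero ha, rfl⟩⟩ : S)
    apply Subtype.ext
    have h2 := congrArg Subtype.val hm
    rw [Submodule.coe_smul, Submodule.coe_zero, ← algebraMap_smul B, hu.smul_eq_zero] at h2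
    exact h2
  haveI hloc : IsLocalizedModule S M.subtype := by
    refine ⟨fun s => ?_, fun l => ?_, fun {x y} h => ⟨1, by rw [one_smul, one_smul]; exact Subtype.ext h⟩⟩
    · have hu : IsUnit (algebraMap A B (s : A)) := IsLocalization.map_units B s
      rw [Module.End.isUnit_iff]
      refine ⟨fun x y h => ?_, fun y => ⟨(↑hu.unit⁻¹ : B) • y, ?_⟩⟩
      · simp only [Module.algebraMap_end_apply, ← algebraMap_smul B (s : A)] at h
        exact hu.smul_left_cancel.1 h
      · rw [Module.algebraMap_end_apply, ← algebraMap_smul B (s : A), smul_smul, hu.mul_val_inv, one_smul]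
    · have hl : l ∈ Submodule.span B (G : Set L) := hG ▸ Submodule.mem_top
      induction hl using Submodule.span_induction with
      | mem x hx => exact ⟨(⟨x, Submodule.subset_span hx⟩, 1), one_smul _ _⟩
      | zero => exact ⟨(0, 1), by simp⟩
      | add x y _ _ hx hy =>
        obtain ⟨⟨a, s⟩, ha⟩ := hx
        obtain ⟨⟨b, t⟩, hb⟩ := hy
        refine ⟨((t : A) • a + (s : A) • b, s * t), ?_⟩
        simp only [Submonoid.smul_def, Submonoid.coe_mul, Submodule.subtype_apply, Submodule.coe_add,
          Submodule.coe_smul] at ha hb ⊢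
        rw [← ha, ← hb, smul_add, mul_smul, mul_smul, smul_comm (s : A) (t : A) x]
      | smul c x _ hx =>
        obtain ⟨⟨a, s⟩, ha⟩ := hx
        obtain ⟨b, t, rfl⟩ := IsLocalization.exists_mk'_eq S c
        refine ⟨(b • a, t * s), ?_⟩
        simp only [Submonoid.smul_def, Submonoid.coe_mul, Submodule.subtype_apply,
          Submodule.coe_smul] at ha ⊢
        rw [← ha, mul_smul]
        simp only [← algebraMap_smul B (t : A), ← algebraMap_smul B (s : A),
          ← algebraMap_smul B b, smul_smul]
        congr 1
        linear_combination (algebraMap A B (s : A)) * (IsLocalization.mk'_spec' B b t)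
  haveI : Module.Flat A B := IsLocalization.flat B S
  let e := (IsLocalizedModule.isBaseChange S B M.subtype).equiv
  have hp : Module.Projective B (B ⊗[A] M) := Module.Projective.of_equiv e.symm
  haveI := isStablyFree_baseChange B hA n M hM (pdLE_of_tf P hP hn hA M hM) hp
  haveI : Module.IsStablyFree B L := Module.IsStablyFree.equiv e
  exact Module.free_of_isStablyFree_of_invertible B L

end GrothLib.PicGenFib4
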